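import Mathlib

set_option autoImplicit false
universe u
open TensorProduct

namespace Groth.Agent.FFMod

/-- Flatness descends from a faithfully flat module. -/
theorem flat_of_faithfullyFlat_module (A B M : Type u) [CommRing A] [CommRing B] [Algebra A B]
    [AddCommGroup M] [Module A M] [Module B M] [IsScalarTower A B M]
    [Module.FaithfullyFlat B M] [Module.Flat A M] : Module.Flat A B := by
  rw [Module.Flat.iff_lTensor_preserves_injective_linearMap]
  intro N N' _ _ _ _ g hg
  let g' : B ⊗[A] N →ₗ[B] B ⊗[A] N' := AlgebraTensorModule.lTensor B B g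
  suffices Function.Injective g' by
    have h : Function.Injective (AlgebraTensorModule.lTensor (R := A) B B g) := this
    rwa [AlgebraTensorModule.coe_lTensor] at h
  apply (Module.FaithfullyFlat.lTensor_injective_iff_injective B M g').1
  let e := AlgebraTensorModule.cancelBaseChange A B B M N
  let e' := AlgebraTensorModule.cancelBaseChange A B B M N'
  have : ∀ z, e' (g'.lTensor M z) = g.lTensor M (e z) := fun z => by
    induction z with
    | zero => simp
    | add a b ha hb => simp only [map_add, ha, hb]
    | tmul m x =>
      induction x with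
      | zero => simp
      | add a b ha hb => simp only [tmul_add, map_add, ha, hb]
      | tmul b n => simp [g', e, e']
  intro a b hab
  apply e.injective
  apply Module.Flat.lTensor_preserves_injective_linearMap (M := M) g hg
  rw [← this, ← this, hab]

theorem faithfullyFlat_of_local {B M : Type u} [CommRing B] [IsLocalRing B] [AddCommGroup M] [Module B M]
    [Module.Flat B M] (h : IsLocalRing.maximalIdeal B • (⊤ : Submodule B M) ≠ ⊤) : Module.FaithfullyFlat B M :=
  ⟨fun {m} hm => by rw [IsLocalRing.eq_maximalIdeal hm]; exact h⟩

theorem smul_top_ne_top {A B M : Type u} [CommRing A] [CommRing B] [IsLocalRing A] [IsLocalRing B] [Algebra A B]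
    [IsLocalHom (algebraMap A B)] [AddCommGroup M] [Module A M] [Module B M] [IsScalarTower A B M]
    (h : IsLocalRing.maximalIdeal B • (⊤ : Submodule B M) ≠ ⊤) :
    IsLocalRing.maximalIdeal A • (⊤ : Submodule A M) ≠ ⊤ := fun he => h (by
  rw [eq_top_iff]
  intro x _
  have hx : x ∈ IsLocalRing.maximalIdeal A • (⊤ : Submodule A M) := by rw [he]; trivial
  refine Submodule.smul_induction_on hx (fun r hr m _ => ?_) (fun _ _ => add_mem)
  rw [← algebraMap_smul B r m]
  exact Submodule.smul_mem_smul (IsLocalRing.mem_maximalIdeal _ |>.2 fun hu => (IsLocalRing.mem_maximalIdeal _).1 hr (isUnit_of_map_unit _ _ hu)) trivial)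

end Groth.Agent.FFMod
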